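import Cfsg.Agent.Blocks.DefectDegree
import Cfsg.Agent.Blocks.Orth.Subsection
import Cfsg.Agent.Chars.Basic.Restrict
import Cfsg.Agent.Chars.Basic.Kernel

/-!
# Divisibility of class functions that vanish on singular elements

A class function with local inner products that vanishes at the `p`-singular elements is divisible,
in the local ring, by the orders of the centralizers.
-/

set_option autoImplicit false
set_option linter.style.haveILetI false
open Cfsg
open scoped ComplexConjugate

namespace CfsgLib.Blocks.KleinFour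

universe u

variable {K : Type u} [Group K] [Fintype K] {p : ℕ} {M : Ideal AlgInt}

/-- The sum of a character over a `p`-subgroup is divisible by its order. -/
theorem sum_translate_div_local [M.IsMaximal] (θ : IrrCharacter K) (x : K)
    (S : Subgroup K) [Fintype S] (hS : ∀ s ∈ S, x * s = s * x) :
    MemLocalRing M ((∑ s : S, (θ : K → ℂ) (x * (s : K))) / (Nat.card S : ℂ)) := by
  classical
  set L := Subgroup.closure (insert x (S : Set K)) with hL
  haveI := Fintype.ofFinite L
  have hxL : x ∈ L := Subgroup.subset_closure (Set.mem_insert _ _)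
  have hSL : ∀ s ∈ S, s ∈ L := fun s hs => Subgroup.subset_closure (Set.mem_insert_of_mem _ hs)
  have hcen : (⟨x, hxL⟩ : L) ∈ Subgroup.center L := by
    have h : L ≤ Subgroup.centralizer ({x} : Set K) := by
      rw [hL, Subgroup.closure_le]
      rintro y (rfl | hy)
      · exact Subgroup.mem_centralizer_singleton_iff.2 rfl
      · exact Subgroup.mem_centralizer_singleton_iff.2 (hS y hy).symm
    exact Subgroup.mem_center_iff.2 fun y =>
      Subtype.ext (Subgroup.mem_centralizer_singleton_iff.1 (h y.2))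
  obtain ⟨c, -, hc, -⟩ := Chars.exists_restrict_coeff θ L
  let ι : S →* L := Subgroup.inclusion hSL
  have hone : ∀ η : IrrCharacter L, ∃ d : ℕ,
      (∑ s : S, (η : L → ℂ) (ι s)) / (Nat.card S : ℂ) = d := by
    intro η
    obtain ⟨d, -, hd⟩ := Chars.exists_nat_coeff (Chars.isCharacter_comp (Chars.isCharacter_coe η) ι)
    refine ⟨d ⟨_, Chars.isIrrCharacter_one⟩, ?_⟩
    rw [← hd ⟨_, Chars.isIrrCharacter_one⟩, classInner, div_eq_inv_mul]
    congr 1
    exact Finset.sum_congr rfl fun s _ => by simp
  choose d hd using hone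
  have hscal : ∀ η : IrrCharacter L,
      IsIntegral ℤ ((η : L → ℂ) ⟨x, hxL⟩ / (η : L → ℂ) 1) := by
    intro η
    obtain ⟨n, hn, hxn⟩ := (isOfFinOrder_of_finite (⟨x, hxL⟩ : L)).exists_pow_eq_one
    refine IsIntegral.of_pow hn ?_
    have hpow : ∀ j : ℕ, (η : L → ℂ) (⟨x, hxL⟩ ^ j) =
        ((η : L → ℂ) ⟨x, hxL⟩ / (η : L → ℂ) 1) ^ j * (η : L → ℂ) 1 := by
      intro j
      induction j with
      | zero => simp
      | succ j ih => rw [pow_succ', Chars.map_mul_of_mem_center η hcen, ih, pow_succ']; ring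
    have h := hpow n
    rw [hxn] at h
    rw [show ((η : L → ℂ) ⟨x, hxL⟩ / (η : L → ℂ) 1) ^ n = 1 from
      mul_right_cancel₀ (Chars.map_one_ne_zero η) (by rw [one_mul]; exact h.symm)]
    exact isIntegral_one
  have key : (∑ s : S, (θ : K → ℂ) (x * (s : K))) / (Nat.card S : ℂ) =
      ∑ η : IrrCharacter L, (c η : ℂ) * ((η : L → ℂ) ⟨x, hxL⟩ / (η : L → ℂ) 1) * (d η : ℂ) := by
    have h1 : ∀ s : S, (θ : K → ℂ) (x * (s : K)) =
        ∑ η : IrrCharacter L, (c η : ℂ) *
          ((η : L → ℂ) ⟨x, hxL⟩ / (η : L → ℂ) 1 * (η : L → ℂ) (ι s)) := by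
      intro s
      have h := congrFun hc (⟨x, hxL⟩ * ι s)
      simp only [Finset.sum_apply, Pi.smul_apply, smul_eq_mul,
        Chars.map_mul_of_mem_center _ hcen] at h
      exact h
    simp only [h1]
    rw [Finset.sum_comm, Finset.sum_div]
    refine Finset.sum_congr rfl fun η _ => ?_
    rw [← hd η, mul_div_assoc', Finset.mul_sum]
    congr 1
    exact Finset.sum_congr rfl fun s _ => (mul_assoc _ _ _).symm
  rw [key]
  refine memLocalRing_of_isIntegral (IsIntegral.sum _ fun η _ => ?_)
  exact ((isIntegral_natCast _).mul (hscal η)).mul (isIntegral_natCast _)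

/-- Vanishing at singular elements gives divisibility by centralizers. -/
theorem memLocalRing_div_centralizer (hM : IsPModular p M) {f : K → ℂ}
    (hf : IsClassFunction K f) (hsing : ∀ x, ¬ IsPRegular p x → f x = 0)
    (hloc : ∀ θ : IrrCharacter K, MemLocalRing M (classInner f (θ : K → ℂ))) (x : K) :
    MemLocalRing M (f x / (Nat.card (Subgroup.centralizer ({x} : Set K)) : ℂ)) := by
  classical
  haveI := isMaximal_of_isPModular hM
  haveI : Fact p.Prime := ⟨hM.1⟩
  by_cases hx : IsPRegular p x
  swap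
  · rw [hsing x hx, zero_div]
    exact (localRing M).zero_mem
  set C := Subgroup.centralizer ({x} : Set K) with hC
  let Sy : Sylow p C := default
  set S : Subgroup K := (Sy : Subgroup C).map C.subtype with hS
  haveI := Fintype.ofFinite S
  have hcard : Nat.card S = p ^ (Nat.card C).factorization p := by
    rw [hS, Subgroup.card_map_of_injective C.subtype_injective, Sy.card_eq_multiplicity]
  have hcomm : ∀ s ∈ S, x * s = s * x := by
    rintro _ ⟨s, -, rfl⟩
    exact (Subgroup.mem_centralizer_singleton_iff.1 s.2).symm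
  have hS0 : (Nat.card S : ℂ) ≠ 0 := Nat.cast_ne_zero.2 Nat.card_pos.ne'
  have hsum : f x = ∑ s : S, f (x * (s : K)) := by
    rw [Fintype.sum_eq_single (1 : S), Subgroup.coe_one, mul_one]
    intro s hs
    refine hsing _ fun hreg => hreg ?_
    obtain ⟨k, hk⟩ := IsPGroup.iff_orderOf.1 (Sy.isPGroup'.map C.subtype) s
    rw [← Subgroup.orderOf_coe] at hk
    have hco : Nat.Coprime (orderOf x) (orderOf (s : K)) := by
      rw [hk]
      exact Nat.Coprime.pow_right _ ((hM.1.coprime_iff_not_dvd).2 hx).symm
    rw [Commute.orderOf_mul_eq_mul_orderOf_of_coprime (hcomm _ s.2) hco, hk]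
    refine Dvd.dvd.mul_left (dvd_pow_self p fun h0 => hs ?_) _
    rw [h0, pow_zero, orderOf_eq_one_iff] at hk
    exact Subtype.ext hk
  have key : f x / (Nat.card S : ℂ) = ∑ θ : IrrCharacter K, classInner f (θ : K → ℂ) *
      ((∑ s : S, (θ : K → ℂ) (x * (s : K))) / (Nat.card S : ℂ)) := by
    conv_lhs => rw [hsum]
    rw [Finset.sum_congr rfl fun (s : S) _ => Chars.eq_sum_classInner_mul hf (x * (s : K)),
      Finset.sum_comm, Finset.sum_div]
    exact Finset.sum_congr rfl fun θ _ => by rw [← mul_div_assoc, Finset.mul_sum]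
  have e : f x / (Nat.card C : ℂ) =
      f x / (Nat.card S : ℂ) * ((Nat.card S : ℕ) / (Nat.card C : ℕ) : ℂ) := by
    rw [div_mul_div_comm, mul_comm (f x) _, mul_div_mul_left _ _ hS0]
  rw [e, key]
  refine (localRing M).mul_mem ((localRing M).sum_mem fun θ _ => ?_)
    (memLocalRing_natCast_div hM Nat.card_pos.ne' Nat.card_pos.ne' ?_)
  · exact (localRing M).mul_mem (hloc θ) (sum_translate_div_local θ x S hcomm)
  · rw [hcard, Nat.Prime.factorization_pow hM.1, Finsupp.single_eq_same]

end CfsgLib.Blocks.KleinFour
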